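import Cfsg.Agent.H134.TD.Sit
import Cfsg.Agent.H360.Iso.Sp
import Cfsg.Agent.H360.Iso.Lin
import Cfsg.Agent.H360.Iso.Uni

/-!
# S3478, identification rows `PSL_m`, `PSU_m`, `Ω_{2m+1}`, `PSp_{2m}` (helper458)
-/

set_option autoImplicit false

namespace Cfsg.Agent.H458.TDRow

open Cfsg Cfsg.Agent.H134.TD Cfsg.Agent.H360.Iso Cfsg.Agent.H135.TD
open Cfsg.Agent.H948.UBase Cfsg.Agent.H948.UProd

section

variable {p q : ℕ} {S : Type*} [Group S]

/-- `mm q` is an isolated number -/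
theorem isoN (h : Sit p q S) : IsoN S (H135.TD.mm q) where
  elt := h.mm
  iso := fun x _ hr hrn hrx => h.dvd_mm ⟨x, rfl⟩ hr hrx hrn
  not_two_dvd := fun h2 => by
    have := mm_mod h.par
    omega
  not_three_dvd := fun h3 => by
    have := mm_mod h.par
    omega
  big := by
    have := mm_ge h.par
    omega

/-- numbers -/
theorem nums (h : Par p q) : ∃ n Q D D' : ℤ, n = (H135.TD.mm q : ℕ) ∧ Q = q ∧ 3 ≤ Q ∧ n = Q ^ 4 - Q ^ 2 + 1 ∧
    D = Q ^ 3 + Q ^ 2 - Q - 2 ∧ D' = Q ^ 3 - Q ^ 2 - Q + 2 ∧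
    (((q ^ 3 - 1) * (q + 1) : ℕ) : ℤ) = n + D ∧ (((q ^ 3 + 1) * (q - 1) : ℕ) : ℤ) = n - D' := by
  have hq := h.hq
  refine ⟨_, _, _, _, rfl, rfl, by exact_mod_cast hq, mm_cast hq, rfl, rfl, ?_, ?_⟩
  · have h1 : 1 ≤ q ^ 3 := Nat.one_le_pow _ _ (by omega)
    push_cast [h1]
    rw [mm_cast hq]
    ring
  · have h1 : 1 ≤ q := by omega
    push_cast [h1]
    rw [mm_cast hq]
    ring

/-- two element orders at distance at most two, one of them `n` -/
theorem no_near (h : Par p q) {a : ℕ} (ho : Om p q a) (h1 : a ≠ H135.TD.mm q) (h2 : a ≤ H135.TD.mm q + 2)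
    (h3 : H135.TD.mm q ≤ a + 2) : False := by
  have h73 := mm_ge h
  obtain ⟨n, Q, D, D', hn, hQ, hQ3, hnQ, hD, hD', hA, hB⟩ := nums h
  have e1 : 3 * Q ≤ Q ^ 2 := by nlinarith
  have e2 : 3 * Q ^ 2 ≤ Q ^ 3 := by nlinarith
  have h2' : (a : ℤ) ≤ n + 2 := by rw [hn]; exact_mod_cast h2
  have h3' : n ≤ (a : ℤ) + 2 := by rw [hn]; exact_mod_cast h3
  rcases Om.large h ho (by omega) with h4 | h4 | h4 | ⟨h4, h5⟩
  · exact h1 h4
  · rw [← h4] at hA
    omega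
  · rw [← h4] at hB
    omega
  · subst h4
    have : H135.TD.mm 3 = 73 := rfl
    omega

theorem not_twin [Finite S] (h : Sit p q S) {A B : ℕ} (hAB : A + 1 = B ∨ A + 2 = B)
    (ht : Twin S (H135.TD.mm q) A B) : False := by
  obtain ⟨h1 | h1, hA, hB⟩ := ht
  · exact no_near h.par (h.ord hB) (by omega) (by omega) (by omega)
  · exact no_near h.par (h.ord hA) (by omega) (by omega) (by omega)

end

/-- **`Ω_{2m+1}(u)`** -/
theorem row_omega_odd {p q : ℕ} {F : Type*} [Field F] [Fintype F] {m : ℕ} (hm : 3 ≤ m) (hF : Odd (Fintype.card F))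
    (h : Sit p q (Cfsg.POmega F (Cfsg.quadFormOdd m F))) : False := by
  classical
  have hfin : Finite (Cfsg.POmega F (Cfsg.quadFormOdd m F)) := inferInstance
  obtain ⟨A, B, hAB, ht⟩ := omegaOdd (by rwa [Nat.card_eq_fintype_card]) hm (isoN h)
  exact not_twin h hAB ht

/-- **`PSp_{2m}(u)`** -/
theorem row_psp {p q : ℕ} {F : Type*} [Field F] [Fintype F] {m : ℕ} (hm : 2 ≤ m)
    (h : Sit p q (Cfsg.PSp m F)) : False := by
  classical
  have hfin : Finite (Cfsg.PSp m F) := inferInstance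
  obtain ⟨A, B, hAB, ht⟩ := psp hm (isoN h)
  exact not_twin h hAB ht

/-- an order `a` with `w (a - n) = n + s`, `1 ≤ s ≤ w + 1`  -/
theorem no_above {p q : ℕ} (h : Par p q) {a : ℕ} (ho : Om p q a) {w s : ℤ} (hw : 1 ≤ w) (hs : 1 ≤ s) (hsw : s ≤ w + 1)
    (hq3 : q = 3 → (¬ 11 * w = 73 + s) ∧ ¬ 5 * w = 73 + s)
    (heq : w * ((a : ℤ) - (H135.TD.mm q : ℕ)) = (H135.TD.mm q : ℕ) + s) : False := by
  have h73 := mm_ge h
  obtain ⟨n, Q, D, D', hn, hQ, hQ3, hnQ, hD, hD', hA, hB⟩ := nums h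
  rw [← hn] at heq
  have h73' : 73 ≤ n := by rw [hn]; exact_mod_cast h73
  have e1 : 3 * Q ≤ Q ^ 2 := by nlinarith
  have e2 : 3 * Q ^ 2 ≤ Q ^ 3 := by nlinarith
  have e3 : 3 * Q ^ 3 ≤ Q ^ 4 := by nlinarith [pow_pos (show 0 < Q by omega) 3]
  have hpos : n < a := by
    by_contra hc
    have : w * ((a : ℤ) - n) ≤ 0 := mul_nonpos_of_nonneg_of_nonpos (by omega) (by omega)
    omega
  rcases Om.large h ho (by omega) with h4 | h4 | h4 | ⟨h4, h5⟩
  · rw [h4] at hpos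
    omega
  · rw [← h4] at hA
    have h5 : w * D = n + s := by rw [← heq, hA]; ring
    have h6 : (Q - 1) * D = Q ^ 4 - 2 * Q ^ 2 - Q + 2 := by rw [hD]; ring
    rcases le_or_gt w (Q - 1) with h7 | h7
    · have := mul_le_mul_of_nonneg_right h7 (show 0 ≤ D by omega)
      omega
    · have h8 := mul_le_mul_of_nonneg_right (show Q ≤ w by omega) (show 0 ≤ D - 1 by omega)
      have h9 : w * (D - 1) = w * D - w := by ring
      have h10 : Q * (D - 1) = Q ^ 4 + Q ^ 3 - Q ^ 2 - 3 * Q := by rw [hD]; ring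
      omega
  · rw [← h4] at hB
    omega
  · subst h4
    have e4 : H135.TD.mm 3 = 73 := rfl
    rw [e4] at hn
    obtain ⟨h6, h7⟩ := hq3 rfl
    rcases h5 with h5 | h5 <;> rw [h5, hn] at heq <;> push_cast at heq <;> omega

/-- an order `a` with `w (n - a) = n - 1`, `4 ≤ w` -/
theorem no_below {p q : ℕ} (h : Par p q) {a : ℕ} (ho : Om p q a) {w : ℤ} (hw : 4 ≤ w)
    (heq : w * ((H135.TD.mm q : ℕ) - (a : ℤ)) = (H135.TD.mm q : ℕ) - 1) : False := by
  have h73 := mm_ge h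
  obtain ⟨n, Q, D, D', hn, hQ, hQ3, hnQ, hD, hD', hA, hB⟩ := nums h
  rw [← hn] at heq
  have h73' : 73 ≤ n := by rw [hn]; exact_mod_cast h73
  have e1 : 3 * Q ≤ Q ^ 2 := by nlinarith
  have e2 : 3 * Q ^ 2 ≤ Q ^ 3 := by nlinarith
  have e3 : 3 * Q ^ 3 ≤ Q ^ 4 := by nlinarith [pow_pos (show 0 < Q by omega) 3]
  have hpos : (a : ℤ) < n := by
    by_contra hc
    have : w * (n - (a : ℤ)) ≤ 0 := mul_nonpos_of_nonneg_of_nonpos (by omega) (by omega)
    omega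
  have hge : 4 * (n - (a : ℤ)) ≤ n - 1 := by
    rw [← heq]
    exact mul_le_mul_of_nonneg_right hw (by omega)
  rcases Om.large h ho (by omega) with h4 | h4 | h4 | ⟨h4, h5⟩
  · rw [h4] at hpos
    omega
  · rw [← h4] at hA
    omega
  · rw [← h4] at hB
    have h5 : w * D' = n - 1 := by rw [← heq, hB]; ring
    have h6 : (Q + 1) * D' = Q ^ 4 - 2 * Q ^ 2 + Q + 2 := by rw [hD']; ring
    rcases le_or_gt w (Q + 1) with h7 | h7
    · have := mul_le_mul_of_nonneg_right h7 (show 0 ≤ D' by omega)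
      have h9 : 3 * Q ≤ Q ^ 2 := e1
      nlinarith
    · have h8 := mul_le_mul_of_nonneg_right (show Q + 2 ≤ w by omega) (show 0 ≤ D' by omega)
      have h10 : (Q + 2) * D' = Q ^ 4 + Q ^ 3 - 3 * Q ^ 2 + 4 := by rw [hD']; ring
      omega
  · subst h4
    have e4 : H135.TD.mm 3 = 73 := rfl
    rw [e4] at hn
    rcases h5 with h5 | h5 <;> omega

end Cfsg.Agent.H458.TDRow
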